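/-
helper56: closed subsets of affine space stable under the automorphisms x_i ↦ x_i + x_j^d.
-/
import Mathlib.RingTheory.MvPolynomial.Basic
import Mathlib.Algebra.MvPolynomial.Eval
import Mathlib.Algebra.Polynomial.Roots
import Mathlib.Algebra.CharP.Algebra
import Mathlib.RingTheory.Localization.FractionRing
import Mathlib.RingTheory.Algebraic.Integral
import Mathlib.FieldTheory.Finite.Basic

set_option autoImplicit false
universe u

namespace Groth.Agent.Desc56

open MvPolynomial

variable {k : Type u} [Field k] {n : ℕ}

/-- `a` is a point of the zero locus of `I`. -/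
def Van (I : Ideal (MvPolynomial (Fin n) k)) {L : Type u} [Field L] [Algebra k L]
    (a : Fin n → L) : Prop :=
  ∀ f ∈ I, aeval a f = 0

/-- `I` cuts out a set stable under all `x_i ↦ x_i + x_j^d`. -/
def Stable (I : Ideal (MvPolynomial (Fin n) k)) : Prop :=
  ∀ (L : Type u) [Field L] [Algebra k L] (a : Fin n → L), Van I a →
    ∀ i j : Fin n, i ≠ j → ∀ d : ℕ, Van I (Function.update a i (a i + a j ^ d))

variable {I : Ideal (MvPolynomial (Fin n) k)}

lemma van_map {L L' : Type u} [Field L] [Algebra k L] [Field L'] [Algebra k L']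
    (φ : L →ₐ[k] L') {a : Fin n → L} (ha : Van I a) : Van I (φ ∘ a) := by
  intro f hf
  have : aeval (φ ∘ a) f = φ (aeval a f) :=
    DFunLike.congr_fun (comp_aeval a φ).symm f
  rw [this, ha f hf, map_zero]

lemma van_line {L : Type u} [Field L] [Algebra k L] {a : Fin n → L} (i : Fin n)
    {S : Set L} (hS : S.Infinite) (h : ∀ t ∈ S, Van I (Function.update a i t)) (t : L) :
    Van I (Function.update a i t) := by
  intro f hf
  let P : Polynomial L := aeval (Function.update (fun l => Polynomial.C (a l)) i Polynomial.X) f
  have key : ∀ s : L, P.eval s = aeval (Function.update a i s) f := by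
    intro s
    have h2 := DFunLike.congr_fun
      (comp_aeval (R := k) (Function.update (fun l => Polynomial.C (a l)) i Polynomial.X)
        ((Polynomial.aeval (R := L) s).restrictScalars k)) f
    simp only [AlgHom.comp_apply, AlgHom.restrictScalars_apply] at h2
    rw [Polynomial.coe_aeval_eq_eval] at h2
    rw [h2]
    congr 1
    congr 1
    funext l
    by_cases hl : l = i
    · subst hl; simp
    · simp [Function.update_of_ne hl]
  have hP : P = 0 := Polynomial.eq_zero_of_infinite_isRoot P
    (hS.mono fun s hs => by simp [Polynomial.IsRoot, key, h s hs f hf])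
  rw [← key t, hP, Polynomial.eval_zero]

/-- A coordinate with infinitely many powers frees every other coordinate. -/
lemma van_update {L : Type u} [Field L] [Algebra k L] {a : Fin n → L} (hI : Stable I) (ha : Van I a)
    {i j : Fin n} (hij : i ≠ j) (hj : (Set.range fun d : ℕ => a j ^ d).Infinite) (t : L) :
    Van I (Function.update a i t) := by
  refine van_line i (S := (fun b => a i + b) '' Set.range fun d : ℕ => a j ^ d)
    (hj.image (add_right_injective (a i)).injOn) ?_ t
  rintro s ⟨b, ⟨d, rfl⟩, rfl⟩
  exact hI L a ha i j hij d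

lemma infinite_pow_X (L : Type u) [Field L] (i : Fin n) :
    (Set.range fun d : ℕ =>
      algebraMap (MvPolynomial (Fin n) L) (FractionRing (MvPolynomial (Fin n) L)) (X i) ^ d).Infinite := by
  refine Set.infinite_range_of_injective fun d e h => ?_
  simp only [← map_pow] at h
  have h' := IsFractionRing.injective _ _ h
  have := congrArg MvPolynomial.totalDegree h'
  simpa using this

/-- A point with a coordinate having infinitely many powers forces `I = ⊥`. -/
lemma eq_bot_of_infinite {L : Type u} [Field L] [Algebra k L] {a : Fin n → L} (hn : 2 ≤ n)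
    (hI : Stable I) (ha : Van I a) {j : Fin n} (hj : (Set.range fun d : ℕ => a j ^ d).Infinite) :
    I = ⊥ := by
  classical
  let F := FractionRing (MvPolynomial (Fin n) L)
  let ι : L →ₐ[k] F := IsScalarTower.toAlgHom k L F
  let g : Fin n → F := fun l => algebraMap (MvPolynomial (Fin n) L) F (X l)
  have hj' : (Set.range fun d : ℕ => (ι ∘ a) j ^ d).Infinite := by
    have := hj.image ι.toRingHom.injective.injOn
    rw [← Set.range_comp] at this
    simpa [Function.comp_def] using this
  have step : ∀ s : Finset (Fin n), j ∉ s → Van I (fun l => if l ∈ s then g l else ι (a l)) := by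
    intro s
    induction s using Finset.induction_on with
    | empty => intro _; simpa [Function.comp_def] using van_map ι ha
    | @insert i s hi ih =>
      intro hjs
      rw [Finset.mem_insert, not_or] at hjs
      have := van_update hI (ih hjs.2) (Ne.symm hjs.1) (by simpa [hjs.2] using hj') (g i)
      convert this using 1
      funext l
      by_cases hl : l = i
      · subst hl; simp
      · simp [Function.update_of_ne hl, hl]
  obtain ⟨i₀, hi₀⟩ : ∃ i₀ : Fin n, i₀ ≠ j := by
    haveI : Nontrivial (Fin n) := Fin.nontrivial_iff_two_le.2 hn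
    exact exists_ne j
  have h1 := step (Finset.univ.erase j) (Finset.notMem_erase _ _)
  have h2 : Van I g := by
    have := van_update hI h1 hi₀.symm
      (by simp only [Finset.mem_erase, Finset.mem_univ, and_true, hi₀, if_true, ne_eq,
            not_false_eq_true]; exact infinite_pow_X L i₀) (g j)
    convert this using 1
    funext l
    by_cases hl : l = j
    · subst hl; simp
    · simp [Function.update_of_ne hl, hl]
  rw [Submodule.eq_bot_iff]
  intro f hf
  have h3 := h2 f hf
  rw [show g = algebraMap (MvPolynomial (Fin n) L) F ∘ (fun l => X l) from rfl,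
    aeval_algebraMap_apply] at h3
  have h4 : aeval (fun l => (X l : MvPolynomial (Fin n) L)) f = 0 :=
    IsFractionRing.injective (MvPolynomial (Fin n) L) F (h3.trans (map_zero _).symm)
  have h5 : (aeval (fun l => (X l : MvPolynomial (Fin n) L)) : MvPolynomial (Fin n) k →ₐ[k] _) =
      MvPolynomial.mapAlgHom (Algebra.ofId k L) := by
    ext l; simp
  rw [h5, MvPolynomial.mapAlgHom_apply] at h4
  exact map_injective _ (algebraMap k L).injective (by simpa using h4)

/-- In characteristic zero a stable proper closed subset is empty. -/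
lemma eq_bot_of_charZero [CharZero k] {L : Type u} [Field L] [Algebra k L] {a : Fin n → L}
    (hn : 2 ≤ n) (hI : Stable I) (ha : Van I a) : I = ⊥ := by
  classical
  haveI : CharZero L := (algebraMap k L).charZero_iff (algebraMap k L).injective |>.1 inferInstance
  have i : Fin n := ⟨0, by omega⟩
  haveI : Nontrivial (Fin n) := Fin.nontrivial_iff_two_le.2 hn
  obtain ⟨j, hji⟩ := exists_ne i
  have trans : ∀ m : ℕ, Van I (Function.update a i (a i + (m : L))) := by
    intro m
    induction m with
    | zero => simpa using ha
    | succ m ih =>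
      have := hI L _ ih i j hji.symm 0
      simpa [add_assoc] using this
  let F := FractionRing (MvPolynomial (Fin n) L)
  let ι : L →ₐ[k] F := IsScalarTower.toAlgHom k L F
  haveI : CharZero F := (algebraMap k F).charZero_iff (algebraMap k F).injective |>.1 inferInstance
  have hF : Van I (Function.update (ι ∘ a) i
      (algebraMap (MvPolynomial (Fin n) L) F (X i))) := by
    refine van_line i (S := Set.range fun m : ℕ => ι (a i) + (m : F))
      (Set.infinite_range_of_injective fun x y h => by simpa using h) ?_ _
    rintro s ⟨m, rfl⟩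
    have := van_map ι (trans m)
    rw [Function.comp_update] at this
    simpa using this
  exact eq_bot_of_infinite hn hI hF (j := i) (by simp only [Function.update_self]; exact infinite_pow_X L i)

lemma exists_pow_prime_pow_eq_self {L : Type u} [Field L] (p : ℕ) (hp : p.Prime) [CharP L p] (x : L)
    (hx : ¬ (Set.range fun d : ℕ => x ^ d).Infinite) : ∃ m, 0 < m ∧ x ^ (p ^ m) = x := by
  haveI := Fact.mk hp
  by_cases h0 : x = 0
  · exact ⟨1, one_pos, by simp [h0, hp.pos.ne']⟩
  have hfo : IsOfFinOrder x := by
    rw [isOfFinOrder_iff_pow_eq_one]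
    by_contra hcon
    refine hx (Set.infinite_range_of_injective fun d e h => ?_)
    by_contra hde
    rcases lt_or_gt_of_ne hde with hlt | hlt
    all_goals refine hcon ⟨_, Nat.sub_pos_of_lt hlt, ?_⟩
    · rw [pow_sub₀ x h0 hlt.le, ← h, mul_inv_cancel₀ (pow_ne_zero _ h0)]
    · rw [pow_sub₀ x h0 hlt.le, h, mul_inv_cancel₀ (pow_ne_zero _ h0)]
  obtain ⟨s, N, hN, hsN⟩ := Nat.exists_eq_pow_mul_and_not_dvd hfo.orderOf_pos.ne' p hp.ne_one
  have hxN : x ^ N = 1 := by
    haveI : ExpChar L p := ExpChar.prime hp
    rw [← ExpChar.pow_prime_pow_mul_eq_one_iff p s N, ← hsN, pow_orderOf_eq_one]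
  have hN0 : 0 < N := Nat.pos_of_ne_zero fun h => hN (h ▸ dvd_zero p)
  refine ⟨N.totient, Nat.totient_pos.2 hN0, ?_⟩
  have hmod : p ^ N.totient ≡ 1 [MOD N] :=
    Nat.ModEq.pow_totient ((Nat.Prime.coprime_iff_not_dvd hp).2 hN)
  conv_rhs => rw [← pow_one x]
  rw [pow_eq_pow_mod (p ^ N.totient) hxN, pow_eq_pow_mod 1 hxN, hmod]

/-- A prime all whose coordinates are periodic is maximal. -/
lemma isMaximal_of_periodic (P : Ideal (MvPolynomial (Fin n) k)) [P.IsPrime] {L : Type u} [Field L]
    [Algebra k L] (a : Fin n → L) (hker : RingHom.ker (aeval a : MvPolynomial (Fin n) k →ₐ[k] L) = P)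
    (h : ∀ i, ∃ m : ℕ, 2 ≤ m ∧ a i ^ m = a i) : P.IsMaximal := by
  have hint : ∀ x ∈ Set.range a, IsIntegral k x := by
    rintro _ ⟨i, rfl⟩
    obtain ⟨m, hm, he⟩ := h i
    refine ⟨Polynomial.X ^ m - Polynomial.X, Polynomial.monic_X_pow_sub ?_, ?_⟩
    · rw [Polynomial.degree_X]; exact_mod_cast hm
    · simp [he]
  have hrange : (aeval a : MvPolynomial (Fin n) k →ₐ[k] L).range = Algebra.adjoin k (Set.range a) :=
    (Algebra.adjoin_range_eq_range_aeval k a).symm
  haveI : Algebra.IsIntegral k (aeval a : MvPolynomial (Fin n) k →ₐ[k] L).range := by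
    rw [hrange]; exact Algebra.IsIntegral.adjoin hint
  have hF : IsField (aeval a : MvPolynomial (Fin n) k →ₐ[k] L).range :=
    isField_of_isIntegral_of_isField' (Field.toIsField k)
  subst hker
  apply Ideal.Quotient.maximal_of_isField
  exact MulEquiv.isField hF
    (Ideal.quotientKerEquivRange (aeval a : MvPolynomial (Fin n) k →ₐ[k] L)).toMulEquiv

end Groth.Agent.Desc56
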